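import Groth.Agent.Lib.ModM1.Stalk
import Groth.Agent.Lib.SchPt.Basic
import Groth.Agent.Lib.ModM1.Push
import Groth.Agent.Lib.Cyc26.PullDiv
import Groth.Agent.Lib.Depth.More
import Groth.Prelude.Def_FlatMod2
import Mathlib.RingTheory.Regular.RegularSequence
import Mathlib.RingTheory.Ideal.AssociatedPrime.Finiteness
import Mathlib.RingTheory.Regular.IsSMulRegular

/-!
# Depth of stalks of direct images
-/

set_option autoImplicit false
set_option linter.style.haveILetI false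
set_option backward.isDefEq.respectTransparency false
set_option maxHeartbeats 1000000

universe u

open CategoryTheory AlgebraicGeometry TopologicalSpace IsLocalRing RingTheory.Sequence Opposite

noncomputable section

namespace Groth.Agent.PushDepth27

open Groth.Agent.M1

variable {X S : Scheme.{u}} (f : X ⟶ S) [QuasiCompact f] (F : X.Modules) {s : S}

omit [QuasiCompact f] in
theorem exists_affine_le {U : S.Opens} (hs : s ∈ U) : ∃ V : S.Opens, IsAffineOpen V ∧ s ∈ V ∧ V ≤ U := by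
  obtain ⟨V, hV, hsV, hle⟩ := Opens.isBasis_iff_nbhd.1 S.isBasis_affineOpens hs
  exact ⟨V, hV, hsV, hle⟩

omit [QuasiCompact f] in
/-- A compact piece of a closed set none of whose points generises to `s` stays away from `s`. -/
theorem exists_nhd_avoid {U : S.Opens} (hU : IsAffineOpen U) (hs : s ∈ U) {W : X.Opens} (hWU : W ≤ f ⁻¹ᵁ U)
    (hW : IsCompact (W : Set X)) {Z : Set X} (hZ : IsClosed Z) (h : ∀ z ∈ W, z ∈ Z → ¬ f z ⤳ s) :
    ∃ V : S.Opens, IsAffineOpen V ∧ s ∈ V ∧ V ≤ U ∧ ∀ z ∈ W, z ∈ Z → f z ∉ V := by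
  let C : Closeds (W : Scheme.{u}) := ⟨W.ι ⁻¹' Z, hZ.preimage W.ι.continuous⟩
  let I := Scheme.IdealSheafData.vanishingIdeal C
  let g : I.subscheme ⟶ (U : Scheme.{u}) := I.subschemeι ≫ X.homOfLE hWU ≫ f ∣_ U
  haveI : IsAffine (U : Scheme.{u}) := hU
  haveI : CompactSpace (W : Scheme.{u}) := isCompact_iff_compactSpace.1 hW
  haveI : CompactSpace I.subscheme := QuasiCompact.compactSpace_of_compactSpace I.subschemeι
  haveI : QuasiCompact g := (quasiCompact_iff_compactSpace g).2 inferInstance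
  have hg : ∀ w : I.subscheme, (g w).1 = f (I.subschemeι w).1 := fun w => by
    show ((f ∣_ U) (X.homOfLE hWU (I.subschemeι w))).1 = _
    rw [morphismRestrict_base_coe]
    exact congrArg f (congr($(Scheme.homOfLE_ι X hWU) (I.subschemeι w)))
  have hcl : (⟨s, hs⟩ : U) ∉ closure (Set.range g) := fun hc => by
    obtain ⟨w, hw⟩ := SchPt.exists_specializes_of_mem_closure_range g hc
    refine h (I.subschemeι w).1 (I.subschemeι w).2 ?_ ?_
    · have : I.subschemeι w ∈ Set.range I.subschemeι := ⟨w, rfl⟩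
      rw [Scheme.IdealSheafData.range_subschemeι, Scheme.IdealSheafData.coe_support_vanishingIdeal] at this
      exact this
    · rw [← hg]
      exact hw.map U.ι.continuous
  let V₀ : S.Opens := ⟨Subtype.val '' (closure (Set.range g))ᶜ,
    U.2.isOpenEmbedding_subtypeVal.isOpenMap _ isClosed_closure.isOpen_compl⟩
  obtain ⟨V, hV, hsV, hle⟩ := exists_affine_le (U := V₀ ⊓ U) ⟨⟨⟨s, hs⟩, hcl, rfl⟩, hs⟩
  refine ⟨V, hV, hsV, hle.trans inf_le_right, fun z hzW hzZ hzV => ?_⟩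
  obtain ⟨⟨y, hy, hyz⟩, -⟩ := hle hzV
  obtain ⟨w, hw⟩ : (⟨z, hzW⟩ : W) ∈ Set.range I.subschemeι := by
    rw [Scheme.IdealSheafData.range_subschemeι, Scheme.IdealSheafData.coe_support_vanishingIdeal]
    exact hzZ
  refine hy (subset_closure ⟨w, Subtype.ext ?_⟩)
  rw [hg, hw]
  exact hyz.symm

omit [QuasiCompact f] in
/-- A section on a compact open vanishing at the points over generisations of `s` vanishes near `s`. -/
theorem exists_res_eq_zero {U : S.Opens} (hU : IsAffineOpen U) (hs : s ∈ U) {W : X.Opens} (hWU : W ≤ f ⁻¹ᵁ U)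
    (hW : IsCompact (W : Set X)) (σ : Γ(F, W))
    (h : ∀ x (hx : x ∈ W), f x ⤳ s → F.presheaf.germ W x hx σ = 0) :
    ∃ V : S.Opens, IsAffineOpen V ∧ s ∈ V ∧ V ≤ U ∧ mres F (inf_le_left : W ⊓ f ⁻¹ᵁ V ≤ W) σ = 0 := by
  let O : X.Opens := ⨆ D : {D : X.Opens // ∃ hD : D ≤ W, mres F hD σ = 0}, D.1
  obtain ⟨V, hV, hsV, hVU, hVav⟩ := exists_nhd_avoid f hU hs hWU hW O.2.isClosed_compl fun z hzW hzO hzs => by
    obtain ⟨D, hzD, i₁, i₂, he⟩ := F.presheaf.germ_eq z hzW hzW σ 0 ((h z hzW hzs).trans (map_zero _).symm)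
    exact hzO (Opens.mem_iSup.2 ⟨⟨D, i₁.le, he.trans (map_zero _)⟩, hzD⟩)
  refine ⟨V, hV, hsV, hVU, modules_eq_of_locally_eq F (W ⊓ f ⁻¹ᵁ V)
    (fun D : {D : X.Opens // ∃ hD : D ≤ W, mres F hD σ = 0} => (W ⊓ f ⁻¹ᵁ V) ⊓ D.1) (fun _ => inf_le_left)
    (fun z hz => ?_) _ _ fun D => ?_⟩
  · have hzO : z ∈ O := by
      by_contra hzO
      exact hVav z hz.1 hzO hz.2
    obtain ⟨D, hzD⟩ := Opens.mem_iSup.1 hzO
    exact Opens.mem_iSup.2 ⟨D, hz, hzD⟩
  · obtain ⟨D, hD, hD0⟩ := D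
    rw [mres_mres, ← mres_mres F hD (inf_le_right : (W ⊓ f ⁻¹ᵁ V) ⊓ D ≤ D), hD0, map_zero, map_zero]

omit [QuasiCompact f] in
theorem exists_res_eq_zero_of_germ_push {U : S.Opens} (hs : s ∈ U) (σ : Γ((Scheme.Modules.pushforward f).obj F, U))
    (h : ((Scheme.Modules.pushforward f).obj F).presheaf.germ U s hs σ = 0) :
    ∃ V : S.Opens, IsAffineOpen V ∧ s ∈ V ∧ ∃ hV : V ≤ U, mres ((Scheme.Modules.pushforward f).obj F) hV σ = 0 := by
  let P := (Scheme.Modules.pushforward f).obj F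
  obtain ⟨D, hsD, i₁, i₂, he⟩ := P.presheaf.germ_eq s hs hs σ 0 (h.trans (map_zero _).symm)
  obtain ⟨V, hV, hsV, hle⟩ := exists_affine_le hsD
  refine ⟨V, hV, hsV, hle.trans i₁.le, ?_⟩
  rw [← mres_mres P i₁.le hle]
  exact (congrArg (mres P hle) (he.trans (map_zero _))).trans (map_zero _)

/-- The germ at `x` of a function on the base. -/
abbrev upGerm {U : S.Opens} (a : Γ(S, U)) (x : X) (hx : x ∈ f ⁻¹ᵁ U) : X.presheaf.stalk x :=
  X.presheaf.germ (f ⁻¹ᵁ U) x hx (f.app U a)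

/-- A function on the base regular at all points over generisations of `s` is regular on the stalk of the
direct image. -/
theorem isSMulRegular_stalk_push {U : S.Opens} (hs : s ∈ U) (a : Γ(S, U))
    (h : ∀ x (hx : x ∈ f ⁻¹ᵁ U), f x ⤳ s → IsSMulRegular (F.presheaf.stalk x) (upGerm f a x hx)) :
    IsSMulRegular (((Scheme.Modules.pushforward f).obj F).presheaf.stalk s) (S.presheaf.germ U s hs a) := by
  let P := (Scheme.Modules.pushforward f).obj F
  refine isSMulRegular_iff_right_eq_zero_of_smul.2 fun m hm => ?_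
  obtain ⟨D, hsD, σ, rfl⟩ := P.presheaf.exists_germ_eq m
  obtain ⟨V₁, hV₁, hs₁, hle₁⟩ := exists_affine_le (U := D ⊓ U) ⟨hsD, hs⟩
  have hm' : P.presheaf.germ V₁ s hs₁ (ores (hle₁.trans inf_le_right) a • mres P (hle₁.trans inf_le_left) σ) = 0 := by
    rw [germ_smul, germ_mres]
    exact (congrArg (fun r => r • (P.presheaf.germ D s hsD σ : P.presheaf.stalk s))
      (TopCat.Presheaf.germ_res_apply S.presheaf (homOfLE (hle₁.trans inf_le_right)) s hs₁ a)).trans hm
  obtain ⟨V₂, hV₂, hs₂, hle₂, h0⟩ := exists_res_eq_zero_of_germ_push f F hs₁ _ hm'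
  rw [mres_smul, mres_mres] at h0
  let τ : Γ(F, f ⁻¹ᵁ V₂) := mres P (hle₂.trans (hle₁.trans inf_le_left)) σ
  obtain ⟨V, hV, hsV, hVU, hz⟩ := exists_res_eq_zero f F hV₂ hs₂ (le_refl (f ⁻¹ᵁ V₂))
    (f.isCompact_preimage hV₂.isCompact) τ fun x hx hxs => by
      have h1 := congrArg (F.presheaf.germ (f ⁻¹ᵁ V₂) x hx) (show f.app V₂ (ores hle₂ (ores (hle₁.trans inf_le_right) a)) • τ = 0 from h0)
      rw [germ_smul, map_zero] at h1
      refine (h x ((hle₂.trans (hle₁.trans inf_le_right)) hx) hxs).right_eq_zero_of_smul ?_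
      refine Eq.trans (congrArg (fun r => r • (F.presheaf.germ (f ⁻¹ᵁ V₂) x hx τ : F.presheaf.stalk x)) ?_) h1
      refine ((f.germ_stalkMap_apply U x _ a).symm.trans ?_).trans (f.germ_stalkMap_apply V₂ x hx _)
      refine congrArg (f.stalkMap x) ?_
      rw [ores, ores, TopCat.Presheaf.germ_res_apply, TopCat.Presheaf.germ_res_apply]
  rw [← germ_mres P (hVU.trans (hle₂.trans (hle₁.trans inf_le_left))) hsV σ]
  have h2 : mres P (hVU.trans (hle₂.trans (hle₁.trans inf_le_left))) σ = (0 : Γ(P, V)) := by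
    rw [← mres_mres P (hle₂.trans (hle₁.trans inf_le_left)) hVU]
    show mres F (f.preimage_mono hVU) τ = 0
    rw [← mres_mres F (inf_le_left : f ⁻¹ᵁ V₂ ⊓ f ⁻¹ᵁ V ≤ f ⁻¹ᵁ V₂) (le_inf (f.preimage_mono hVU) le_rfl), hz, map_zero]
  rw [h2, map_zero]

/-- Gluing local quotients by a function on the base. -/
theorem exists_smul_eq_germ {U : S.Opens} (hU : IsAffineOpen U) (hs : s ∈ U) (a : Γ(S, U))
    (σ : Γ((Scheme.Modules.pushforward f).obj F, U)) {ι : Type*} (W : ι → X.Opens) (hW : ∀ i, W i ≤ f ⁻¹ᵁ U)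
    (hcov : ∀ x (_ : x ∈ f ⁻¹ᵁ U), f x ⤳ s → ∃ i, x ∈ W i) (η : ∀ i, Γ(F, W i))
    (heq : ∀ i, ores (hW i) (f.app U a) • η i = mres F (hW i) σ)
    (hcomp : ∀ i j, mres F (inf_le_left : W i ⊓ W j ≤ W i) (η i) = mres F inf_le_right (η j)) :
    ∃ m : ((Scheme.Modules.pushforward f).obj F).presheaf.stalk s,
      S.presheaf.germ U s hs a • m = ((Scheme.Modules.pushforward f).obj F).presheaf.germ U s hs σ := by
  let P := (Scheme.Modules.pushforward f).obj F
  obtain ⟨V, hV, hsV, hVU, hav⟩ := exists_nhd_avoid f hU hs (le_refl (f ⁻¹ᵁ U)) (f.isCompact_preimage hU.isCompact)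
    (⨆ i, W i).2.isClosed_compl fun z hz hzc hzs => hzc (Opens.mem_iSup.2 (hcov z hz hzs))
  let D : ι → X.Opens := fun i => W i ⊓ f ⁻¹ᵁ V
  have hc : f ⁻¹ᵁ V ≤ ⨆ i, D i := fun z hz => by
    by_cases hzW : z ∈ ⨆ i, W i
    · obtain ⟨i, hi⟩ := Opens.mem_iSup.1 hzW
      exact Opens.mem_iSup.2 ⟨i, hi, hz⟩
    · exact absurd hz (hav z (f.preimage_mono hVU hz) hzW)
  obtain ⟨e, he, -⟩ := TopCat.Sheaf.existsUnique_gluing' ⟨_, F.isSheaf⟩ D (f ⁻¹ᵁ V) (fun i => homOfLE inf_le_right) hc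
    (fun i => mres F (inf_le_left : D i ≤ W i) (η i)) fun i j => by
      show mres F inf_le_left (mres F _ (η i)) = mres F inf_le_right (mres F _ (η j))
      rw [mres_mres, mres_mres]
      have h1 := congrArg (mres F (le_inf (inf_le_left.trans inf_le_left) (inf_le_right.trans inf_le_left) :
        D i ⊓ D j ≤ W i ⊓ W j)) (hcomp i j)
      rwa [mres_mres, mres_mres] at h1
  let e' : Γ(P, V) := e
  refine ⟨P.presheaf.germ V s hsV e', ?_⟩
  rw [← TopCat.Presheaf.germ_res_apply S.presheaf (homOfLE hVU) s hsV a, ← germ_smul, ← germ_mres P hVU hsV σ]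
  refine congrArg (P.presheaf.germ V s hsV) ?_
  refine modules_eq_of_locally_eq F (f ⁻¹ᵁ V) D (fun i => inf_le_right) hc _ _ fun i => ?_
  show mres F _ (f.app V (ores hVU a) • e) = mres F _ (mres F (f.preimage_mono hVU) σ)
  rw [mres_smul, mres_mres, show mres F (inf_le_right : D i ≤ f ⁻¹ᵁ V) e = mres F (inf_le_left : D i ≤ W i) (η i) from he i,
    ← mres_mres F (hW i) (inf_le_left : D i ≤ W i), ← heq i, mres_smul]
  refine congrArg (fun r => r • mres F (inf_le_left : D i ≤ W i) (η i)) ?_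
  have := congr($(f.naturality (homOfLE hVU).op) a)
  show ores _ (f.app V (ores hVU a)) = _
  rw [show f.app V (ores hVU a) = ores (f.preimage_mono hVU) (f.app U a) from this, ores_ores, ores_ores]

end Groth.Agent.PushDepth27
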