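import Groth.Agent.Lib.PushDepth27.Basic

/-!
# Depth two of stalks of direct images
-/

set_option autoImplicit false
set_option linter.style.haveILetI false
set_option backward.isDefEq.respectTransparency false
set_option maxHeartbeats 1000000

universe u

open CategoryTheory AlgebraicGeometry TopologicalSpace IsLocalRing RingTheory.Sequence Opposite Pointwise

noncomputable section

namespace Groth.Agent.PushDepth27

open Groth.Agent.M1

variable {X S : Scheme.{u}} (f : X ⟶ S) (F : X.Modules) {s : S}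

theorem upGerm_eq {U : S.Opens} (a : Γ(S, U)) (x : X) (hx : x ∈ f ⁻¹ᵁ U) :
    upGerm f a x hx = f.stalkMap x (S.presheaf.germ U (f x) hx a) := (f.germ_stalkMap_apply U x hx a).symm

theorem upGerm_ores {U V : S.Opens} (h : V ≤ U) (a : Γ(S, U)) (x : X) (hx : x ∈ f ⁻¹ᵁ V) :
    upGerm f (ores h a) x hx = upGerm f a x (f.preimage_mono h hx) := by
  rw [upGerm_eq, upGerm_eq, ores, TopCat.Presheaf.germ_res_apply]

/-- Functions generating the maximal ideal at `s` have no common zero among the other generisations of `s`. -/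
theorem exists_isUnit_upGerm {U : S.Opens} (hs : s ∈ U) {k : Type*} (a : k → Γ(S, U))
    (hgen : Ideal.span (Set.range fun i => S.presheaf.germ U s hs (a i)) = maximalIdeal (S.presheaf.stalk s))
    (x : X) (hx : x ∈ f ⁻¹ᵁ U) (hxs : f x ⤳ s) (hne : f x ≠ s) : ∃ i, IsUnit (upGerm f (a i) x hx) := by
  by_contra hno
  refine hne ?_
  let sp := S.presheaf.stalkSpecializes hxs
  have hle : maximalIdeal (S.presheaf.stalk s) ≤ (maximalIdeal (S.presheaf.stalk (f x))).comap sp.hom := by
    rw [← hgen, Ideal.span_le]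
    rintro _ ⟨i, rfl⟩
    show sp (S.presheaf.germ U s hs (a i)) ∈ maximalIdeal _
    rw [TopCat.Presheaf.germ_stalkSpecializes_apply, mem_maximalIdeal]
    exact fun h => hno ⟨i, by rw [upGerm_eq]; exact h.map _⟩
  have h1 : Spec.map sp (closedPoint _) = closedPoint (S.presheaf.stalk s) :=
    PrimeSpectrum.ext ((le_maximalIdeal (Ideal.IsPrime.ne_top inferInstance)).antisymm hle)
  have h2 : S.fromSpecStalk s (Spec.map sp (closedPoint _)) = f x := by
    rw [← Scheme.Hom.comp_apply, Scheme.SpecMap_stalkSpecializes_fromSpecStalk, Scheme.fromSpecStalk_closedPoint]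
  rw [h1, Scheme.fromSpecStalk_closedPoint] at h2
  exact h2.symm

set_option quotPrecheck false in
local notation "P" => Functor.obj (Scheme.Modules.pushforward f) F

/-- Finitely many vanishing germs vanish on a common neighbourhood. -/
theorem exists_common_zero {U : S.Opens} (hs : s ∈ U) {k : Type*} [Finite k] (σ : k → Γ(P, U))
    (h : ∀ i, (P).presheaf.germ U s hs (σ i) = 0) :
    ∃ V : S.Opens, IsAffineOpen V ∧ s ∈ V ∧ ∃ hV : V ≤ U, ∀ i, mres (P) hV (σ i) = 0 := by
  choose D hD hsD hDU hz using fun i => exists_res_eq_zero_of_germ_push f F hs (σ i) (h i)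
  have hopen : IsOpen ((U : Set S) ∩ ⋂ i, (D i : Set S)) := U.2.inter (isOpen_iInter_of_finite fun i => (D i).2)
  obtain ⟨V, hV, hsV, hle⟩ := exists_affine_le (U := (⟨_, hopen⟩ : S.Opens)) ⟨hs, Set.mem_iInter.2 hsD⟩
  have hVD : ∀ i, V ≤ D i := fun i z hz => Set.mem_iInter.1 (hle hz).2 i
  exact ⟨V, hV, hsV, fun z hz => (hle hz).1, fun i => by
    rw [← mres_mres (P) (hDU i) (hVD i), hz, map_zero]⟩

/-- Finitely many germs of functions and sections are defined on a common affine neighbourhood. -/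
theorem exists_common_germs {k l : Type*} [Finite k] [Finite l] (r : k → S.presheaf.stalk s)
    (m : l → (P).presheaf.stalk s) :
    ∃ (U : S.Opens) (_ : IsAffineOpen U) (hs : s ∈ U), (∀ i, ∃ a, S.presheaf.germ U s hs a = r i) ∧
      ∀ j, ∃ σ, (P).presheaf.germ U s hs σ = m j := by
  choose D hsD a ha using fun i => S.presheaf.exists_germ_eq (r i)
  choose E hsE σ hσ using fun j => (P).presheaf.exists_germ_eq (m j)
  have hopen : IsOpen ((⋂ i, (D i : Set S)) ∩ ⋂ j, (E j : Set S)) :=
    (isOpen_iInter_of_finite fun i => (D i).2).inter (isOpen_iInter_of_finite fun j => (E j).2)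
  obtain ⟨U, hU, hsU, hle⟩ := exists_affine_le (U := (⟨_, hopen⟩ : S.Opens))
    ⟨Set.mem_iInter.2 hsD, Set.mem_iInter.2 hsE⟩
  refine ⟨U, hU, hsU, fun i => ⟨ores (fun z hz => Set.mem_iInter.1 (hle hz).1 i : U ≤ D i) (a i), ?_⟩,
    fun j => ⟨mres (P) (fun z hz => Set.mem_iInter.1 (hle hz).2 j : U ≤ E j) (σ j), ?_⟩⟩
  · rw [ores, TopCat.Presheaf.germ_res_apply]; exact ha i
  · rw [germ_mres]; exact hσ j

variable [QuasiCompact f]

/-- A germ killed by the maximal ideal vanishes when no point lies over `s`. -/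
theorem eq_zero_of_forall_smul_eq_zero [IsNoetherianRing (S.presheaf.stalk s)] (hne : ∀ x, f x ≠ s)
    (m : (P).presheaf.stalk s) (hm : ∀ r ∈ maximalIdeal (S.presheaf.stalk s), r • m = 0) : m = 0 := by
  obtain ⟨G, hG⟩ := IsNoetherian.noetherian (maximalIdeal (S.presheaf.stalk s))
  obtain ⟨U, hU, hs, hr, hmm⟩ := exists_common_germs f F (fun i : G => (i : S.presheaf.stalk s)) (fun _ : Unit => m)
  choose a ha using hr
  obtain ⟨σ, hσ⟩ := hmm ()
  obtain ⟨V, hV, hsV, hVU, hz⟩ := exists_common_zero f F hs (fun i => a i • σ) fun i => by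
    rw [germ_smul, ha, hσ]
    exact hm _ (hG.le (Submodule.subset_span i.2))
  obtain ⟨V', hV', hs', hle', hzero⟩ := exists_res_eq_zero f F hV hsV (le_refl (f ⁻¹ᵁ V))
    (f.isCompact_preimage hV.isCompact) (mres F (f.preimage_mono hVU) σ) fun x hx hxs => by
      obtain ⟨i, hi⟩ := exists_isUnit_upGerm f hsV (fun i => ores hVU (a i)) (by
        rw [← hG]
        refine congrArg Ideal.span (Set.ext fun r => ⟨?_, fun hr => ⟨⟨r, hr⟩, ?_⟩⟩)
        · rintro ⟨i, rfl⟩
          simp only [ores, TopCat.Presheaf.germ_res_apply, ha]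
          exact i.2
        · simp only [ores, TopCat.Presheaf.germ_res_apply, ha]) x hx hxs (hne x)
      have h1 : mres (P) hVU (a i • σ) = 0 := hz i
      rw [mres_smul] at h1
      have h2 := congrArg (F.presheaf.germ (f ⁻¹ᵁ V) x hx)
        (show f.app V (ores hVU (a i)) • mres F (f.preimage_mono hVU) σ = 0 from h1)
      rw [germ_smul, map_zero] at h2
      exact hi.smul_eq_zero.1 h2
  rw [← hσ, ← germ_mres (P) (hle'.trans hVU) hs' σ]
  have h3 : mres (P) (hle'.trans hVU) σ = (0 : Γ(P, V')) := by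
    rw [← mres_mres (P) hVU hle']
    show mres F (f.preimage_mono hle') (mres F (f.preimage_mono hVU) σ) = 0
    rw [← mres_mres F (inf_le_left : f ⁻¹ᵁ V ⊓ f ⁻¹ᵁ V' ≤ f ⁻¹ᵁ V) (le_inf (f.preimage_mono hle') le_rfl), hzero,
      map_zero]
  rw [h3, map_zero]

/-- A germ sent into the multiples of a regular element by the maximal ideal is such a multiple when no point
lies over `s`. -/
theorem exists_smul_eq_of_forall_smul [IsNoetherianRing (S.presheaf.stalk s)] (hne : ∀ x, f x ≠ s)
    (c : S.presheaf.stalk s) (hc : IsSMulRegular ((P).presheaf.stalk s) c) (m : (P).presheaf.stalk s)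
    (hm : ∀ r ∈ maximalIdeal (S.presheaf.stalk s), ∃ t, r • m = c • t) : ∃ t, c • t = m := by
  classical
  obtain ⟨G, hG⟩ := IsNoetherian.noetherian (maximalIdeal (S.presheaf.stalk s))
  choose t ht using fun i : G => hm i (hG.le (Submodule.subset_span i.2))
  obtain ⟨U₀, hU₀, hs₀, hr, hmm⟩ := exists_common_germs f F (k := Option G) (l := Option G)
    (fun o => o.elim c fun i => (i : S.presheaf.stalk s)) (fun o => o.elim m t)
  choose a ha using hr
  choose σ hσ using hmm
  obtain ⟨U, hU, hs, hUU, hz⟩ := exists_common_zero f F hs₀ (k := G ⊕ (G × G))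
    (Sum.elim (fun i => a (some i) • σ none - a none • σ (some i))
      (fun p => a (some p.2) • σ (some p.1) - a (some p.1) • σ (some p.2))) (by
    rintro (i | ⟨i, j⟩)
    · simp only [Sum.elim_inl, map_sub, germ_smul, ha, hσ, Option.elim]
      exact sub_eq_zero.2 (ht i)
    · simp only [Sum.elim_inr, map_sub, germ_smul, ha, hσ, Option.elim]
      refine sub_eq_zero.2 (hc ?_)
      show c • ((j : S.presheaf.stalk s) • t i) = c • ((i : S.presheaf.stalk s) • t j)
      rw [smul_comm, ← ht, smul_comm c, ← ht, smul_comm])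
  let b : G → Γ(X, f ⁻¹ᵁ U) := fun i => f.app U (ores hUU (a (some i)))
  let τ : Option G → Γ(F, f ⁻¹ᵁ U) := fun o => mres F (f.preimage_mono hUU) (σ o)
  have hrel : ∀ i, b i • τ none = f.app U (ores hUU (a none)) • τ (some i) := fun i => by
    have h1 := hz (.inl i)
    simp only [Sum.elim_inl, map_sub, mres_smul] at h1
    exact sub_eq_zero.1 h1
  have hrel2 : ∀ i j, b j • τ (some i) = b i • τ (some j) := fun i j => by
    have h1 := hz (.inr (i, j))
    simp only [Sum.elim_inr, map_sub, mres_smul] at h1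
    exact sub_eq_zero.1 h1
  let W : G → X.Opens := fun i => X.basicOpen (b i)
  have hWU : ∀ i, W i ≤ f ⁻¹ᵁ U := fun i => X.basicOpen_le _
  have hu : ∀ i, IsUnit (ores (hWU i) (b i)) := fun i => X.toRingedSpace.isUnit_res_basicOpen (b i)
  let η : ∀ i, Γ(F, W i) := fun i => ((hu i).unit⁻¹ : Γ(X, W i)ˣ).1 • mres F (hWU i) (τ (some i))
  have hη : ∀ i, ores (hWU i) (b i) • η i = mres F (hWU i) (τ (some i)) := fun i => by
    show ores (hWU i) (b i) • ((hu i).unit⁻¹ : Γ(X, W i)ˣ).1 • _ = _
    rw [← mul_smul, IsUnit.mul_val_inv, one_smul]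
  obtain ⟨e, he⟩ := exists_smul_eq_germ f F hU hs (ores hUU (a none)) (τ none) W hWU (fun x hx hxs => by
      obtain ⟨i, hi⟩ := exists_isUnit_upGerm f hs (fun i : G => ores hUU (a (some i))) (by
        rw [← hG]
        refine congrArg Ideal.span (Set.ext fun r => ⟨?_, fun hr => ⟨⟨r, hr⟩, ?_⟩⟩)
        · rintro ⟨i, rfl⟩
          simp only [ores, TopCat.Presheaf.germ_res_apply, ha, Option.elim]
          exact i.2
        · simp only [ores, TopCat.Presheaf.germ_res_apply, ha, Option.elim]) x hx hxs (hne x)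
      exact ⟨i, (X.mem_basicOpen (b i) x hx).2 hi⟩) η (fun i => by
    refine (hu i).smul_left_cancel.1 ?_
    rw [smul_comm, hη, ← mres_smul, ← mres_smul, hrel]) (fun i j => by
    have hu2 := ((hu i).map (X.presheaf.map (homOfLE (inf_le_left : W i ⊓ W j ≤ W i)).op).hom).mul
      ((hu j).map (X.presheaf.map (homOfLE (inf_le_right : W i ⊓ W j ≤ W j)).op).hom)
    refine hu2.smul_left_cancel.1 ?_
    show (ores _ (ores (hWU i) (b i)) * ores _ (ores (hWU j) (b j))) • _ = _
    have hji := congrArg (mres F (inf_le_left.trans (hWU i) : W i ⊓ W j ≤ f ⁻¹ᵁ U)) (hrel2 i j)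
    rw [mres_smul, mres_smul] at hji
    have hi' := congrArg (mres F (inf_le_left : W i ⊓ W j ≤ W i)) (hη i)
    have hj' := congrArg (mres F (inf_le_right : W i ⊓ W j ≤ W j)) (hη j)
    rw [mres_smul] at hi' hj'
    generalize mres F (inf_le_left : W i ⊓ W j ≤ W i) (η i) = ei at hi' ⊢
    generalize mres F (inf_le_right : W i ⊓ W j ≤ W j) (η j) = ej at hj' ⊢
    refine Eq.trans ?_ (Eq.trans hji ?_)
    · rw [mul_comm, mul_smul, hi', ores_ores]
      exact congrArg (ores _ (b j) • ·) (mres_mres F (hWU i) inf_le_left (τ (some i)))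
    · rw [mul_smul, hj', ores_ores]
      exact (congrArg (ores _ (b i) • ·) (mres_mres F (hWU j) inf_le_right (τ (some j)))).symm)
  refine ⟨e, ?_⟩
  rw [ores, TopCat.Presheaf.germ_res_apply, ha] at he
  refine he.trans ?_
  rw [show (P).presheaf.germ U s hs (τ none) = (P).presheaf.germ U₀ s hs₀ (σ none) from germ_mres (P) hUU hs (σ none), hσ]
  rfl

/-- Depth two where no point lies over `s`. -/
theorem two_le_depth_of_forall_ne [IsNoetherianRing (S.presheaf.stalk s)]
    [Module.Finite (S.presheaf.stalk s) ((P).presheaf.stalk s)] (hne : ∀ x, f x ≠ s) :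
    (2 : ℕ∞) ≤ LocCoh.depth (S.presheaf.stalk s) ((P).presheaf.stalk s) := by
  let A := S.presheaf.stalk s
  have key : ∀ (M : Type u) [AddCommGroup M] [Module A M] [Module.Finite A M],
      (∀ m : M, (∀ r ∈ maximalIdeal A, r • m = 0) → m = 0) → ∃ r ∈ maximalIdeal A, IsSMulRegular M r := by
    intro M _ _ _ hM
    by_contra hno
    obtain ⟨Q, hQ, hle⟩ := ((maximalIdeal A).subset_union_prime_finite (associatedPrimes.finite A M) (f := id) 0 0
      fun _ h _ _ => h.isPrime).1 (by
        simp_rw [id, biUnion_associatedPrimes_eq_compl_regular]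
        exact fun r hr hreg => hno ⟨r, hr, hreg⟩)
    obtain rfl : Q = maximalIdeal A := (le_maximalIdeal hQ.isPrime.ne_top).antisymm hle
    rw [AssociatedPrimes.mem_iff, isAssociatedPrime_iff] at hQ
    obtain ⟨-, x, hx⟩ := hQ
    have h0 : x = 0 := hM x fun r hr => by
      have hr' := hx ▸ hr
      rw [Submodule.mem_colon_singleton, Submodule.mem_bot] at hr'
      exact hr'
    refine (maximalIdeal.isMaximal A).ne_top ((Ideal.eq_top_iff_one _).2 ?_)
    rw [hx, Submodule.mem_colon_singleton, h0, smul_zero]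
    exact Submodule.zero_mem _
  obtain ⟨c, hc, hcreg⟩ := key _ (eq_zero_of_forall_smul_eq_zero f F hne)
  obtain ⟨d, hd, hdreg⟩ := key (QuotSMulTop c ((P).presheaf.stalk s)) fun q hq => by
    obtain ⟨m, rfl⟩ := Submodule.Quotient.mk_surjective _ q
    obtain ⟨t, ht⟩ := exists_smul_eq_of_forall_smul f F hne c hcreg m fun r hr => by
      have := hq r hr
      rw [← Submodule.Quotient.mk_smul, Submodule.Quotient.mk_eq_zero, Submodule.mem_smul_pointwise_iff_exists] at this
      obtain ⟨t, -, ht⟩ := this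
      exact ⟨t, ht.symm⟩
    exact (Submodule.Quotient.mk_eq_zero _).2 ((Submodule.mem_smul_pointwise_iff_exists _ _ _).2 ⟨t, trivial, ht⟩)
  exact_mod_cast DepthLib.length_le_idealDepth (rs := [c, d])
    ((isWeaklyRegular_cons_iff _ _ _).2 ⟨hcreg, (isWeaklyRegular_singleton_iff _ _).2 hdreg⟩)
    (by rintro r (_ | ⟨_, _ | ⟨_, ⟨⟩⟩⟩) <;> assumption)

end Groth.Agent.PushDepth27
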