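import Groth.Agent.Lib.PushDepth27.Depth
import Mathlib.RingTheory.Regular.Flat
import Mathlib.AlgebraicGeometry.Morphisms.QuasiSeparated

/-!
# Depth of stalks of direct images of flat modules
-/

set_option autoImplicit false
set_option linter.style.haveILetI false
set_option backward.isDefEq.respectTransparency false
set_option maxHeartbeats 1000000

universe u

open CategoryTheory AlgebraicGeometry TopologicalSpace IsLocalRing RingTheory.Sequence Opposite Pointwise TensorProduct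

noncomputable section

namespace Groth.Agent.PushDepth27

open Groth.Agent.M1

variable {X S : Scheme.{u}} (f : X ⟶ S) (F : X.Modules) {s : S}

/-- Regular sequences at `s` stay regular on the stalks of a flat module over generisations of `s`. -/
theorem isWeaklyRegular_stalk_of_flat (hF : FlatMod.IsFlatOver f F) {U : S.Opens} (hs : s ∈ U) (as : List Γ(S, U))
    (h : IsWeaklyRegular (S.presheaf.stalk s) (as.map fun a => S.presheaf.germ U s hs a))
    (x : X) (hx : x ∈ f ⁻¹ᵁ U) (hxs : f x ⤳ s) :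
    IsWeaklyRegular (F.presheaf.stalk x) (as.map fun a => upGerm f a x hx) := by
  let A : Type u := S.presheaf.stalk s
  let B : Type u := S.presheaf.stalk (f x)
  letI : Algebra A B := (S.presheaf.stalkSpecializes hxs).hom.toAlgebra
  haveI hloc := Cyc26.isLocalization_stalkSpecializes hxs
  haveI : Module.Flat A B := IsLocalization.flat B (RingHom.ker (Cyc.specMap s (f x) hxs)).primeCompl
  have h1 := h.of_flat (S := B)
  rw [List.map_map] at h1
  letI := FlatMod.moduleStalkOver f F x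
  haveI : Module.Flat B (F.presheaf.stalk x) := hF x
  have h2 := (TensorProduct.lid B (F.presheaf.stalk x)).isWeaklyRegular_congr _ |>.1
    (h1.isWeaklyRegular_rTensor (M₂ := F.presheaf.stalk x))
  letI : Algebra B (X.presheaf.stalk x) := (f.stalkMap x).hom.toAlgebra
  haveI : IsScalarTower B (X.presheaf.stalk x) (F.presheaf.stalk x) := IsScalarTower.of_algebraMap_smul fun _ _ => rfl
  rw [← isWeaklyRegular_map_algebraMap_iff (S := X.presheaf.stalk x)] at h2
  rw [List.map_map] at h2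
  convert h2 using 2
  funext a
  show upGerm f a x hx = f.stalkMap x (S.presheaf.stalkSpecializes hxs (S.presheaf.germ U s hs a))
  rw [upGerm_eq, TopCat.Presheaf.germ_stalkSpecializes_apply]

local notation "P" => CategoryTheory.Functor.obj (Scheme.Modules.pushforward f) F

variable [QuasiCompact f] [QuasiSeparated f]

/-- A second regular element stays regular on the stalk of the direct image modulo the first. -/
theorem isSMulRegular_quot_stalk_push {U₀ : S.Opens} (hs₀ : s ∈ U₀) (a b : Γ(S, U₀))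
    (h : ∀ x (hx : x ∈ f ⁻¹ᵁ U₀), f x ⤳ s →
      IsWeaklyRegular (F.presheaf.stalk x) [upGerm f a x hx, upGerm f b x hx]) :
    IsSMulRegular (QuotSMulTop (S.presheaf.germ U₀ s hs₀ a) ((P).presheaf.stalk s)) (S.presheaf.germ U₀ s hs₀ b) := by
  refine isSMulRegular_iff_right_eq_zero_of_smul.2 fun q hq => ?_
  obtain ⟨m, rfl⟩ := Submodule.Quotient.mk_surjective _ q
  rw [← Submodule.Quotient.mk_smul, Submodule.Quotient.mk_eq_zero, Submodule.mem_smul_pointwise_iff_exists] at hq
  obtain ⟨t, -, ht⟩ := hq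
  refine (Submodule.Quotient.mk_eq_zero _).2 ((Submodule.mem_smul_pointwise_iff_exists _ _ _).2 ?_)
  -- sections on an affine neighbourhood
  obtain ⟨D, -, hsD, -, hσ⟩ := exists_common_germs f F (s := s) (fun _ : Empty => (0 : S.presheaf.stalk s))
    (fun o : Bool => cond o m t)
  choose σ hσ using hσ
  let D₀ := D ⊓ U₀
  obtain ⟨U, hU, hs, hUD, hz⟩ := exists_common_zero f F (U := D₀) ⟨hsD, hs₀⟩
    (fun _ : Unit => ores inf_le_right b • mres (P) inf_le_left (σ true) -
      ores inf_le_right a • mres (P) inf_le_left (σ false)) fun _ => by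
    rw [map_sub, germ_smul, germ_smul, germ_mres, germ_mres, ores, TopCat.Presheaf.germ_res_apply,
      TopCat.Presheaf.germ_res_apply, hσ, hσ]
    exact sub_eq_zero.2 ht.symm
  have hUU : U ≤ U₀ := hUD.trans inf_le_right
  have hUD' : U ≤ D := hUD.trans inf_le_left
  let σ₁ : Γ(F, f ⁻¹ᵁ U) := mres (P) hUD' (σ true)
  let τ₁ : Γ(F, f ⁻¹ᵁ U) := mres (P) hUD' (σ false)
  have hrel : f.app U (ores hUU b) • σ₁ = f.app U (ores hUU a) • τ₁ := by
    have h1 := hz ()
    rw [map_sub, mres_smul, mres_smul, sub_eq_zero] at h1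
    erw [ores_ores, ores_ores, mres_mres, mres_mres] at h1
    exact h1
  -- local quotients
  have hloc : ∀ x : {x : X // x ∈ f ⁻¹ᵁ U ∧ f x ⤳ s}, ∃ (W : X.Opens) (hW : W ≤ f ⁻¹ᵁ U) (η : Γ(F, W)),
      IsAffineOpen W ∧ x.1 ∈ W ∧ ores hW (f.app U (ores hUU a)) • η = mres F hW σ₁ := by
    rintro ⟨x, hx, hxs⟩
    have hr := h x (f.preimage_mono hUU hx) hxs
    rw [isWeaklyRegular_cons_iff, isWeaklyRegular_singleton_iff] at hr
    have h1 := congrArg (F.presheaf.germ (f ⁻¹ᵁ U) x hx) hrel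
    rw [germ_smul, germ_smul] at h1
    have hga : X.presheaf.germ (f ⁻¹ᵁ U) x hx (f.app U (ores hUU a)) = upGerm f a x (f.preimage_mono hUU hx) :=
      upGerm_ores f hUU a x hx
    have hgb : X.presheaf.germ (f ⁻¹ᵁ U) x hx (f.app U (ores hUU b)) = upGerm f b x (f.preimage_mono hUU hx) :=
      upGerm_ores f hUU b x hx
    rw [hga, hgb] at h1
    have h2 : (Submodule.Quotient.mk (F.presheaf.germ (f ⁻¹ᵁ U) x hx σ₁) :
        QuotSMulTop (upGerm f a x (f.preimage_mono hUU hx)) (F.presheaf.stalk x)) = 0 := by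
      refine hr.2.right_eq_zero_of_smul ?_
      rw [← Submodule.Quotient.mk_smul, h1, Submodule.Quotient.mk_eq_zero]
      exact Submodule.smul_mem_pointwise_smul _ _ _ trivial
    rw [Submodule.Quotient.mk_eq_zero, Submodule.mem_smul_pointwise_iff_exists] at h2
    obtain ⟨g, -, hg⟩ := h2
    obtain ⟨E, hxE, η, rfl⟩ := F.presheaf.exists_germ_eq g
    rw [← hga, ← germ_mres F (inf_le_right : f ⁻¹ᵁ U ⊓ E ≤ E) ⟨hx, hxE⟩ η,
      ← TopCat.Presheaf.germ_res_apply X.presheaf (homOfLE (inf_le_left : f ⁻¹ᵁ U ⊓ E ≤ f ⁻¹ᵁ U)) x ⟨hx, hxE⟩,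
      ← germ_smul, ← germ_mres F (inf_le_left : f ⁻¹ᵁ U ⊓ E ≤ f ⁻¹ᵁ U) ⟨hx, hxE⟩ σ₁] at hg
    obtain ⟨W₀, hxW₀, i₁, i₂, he⟩ := F.presheaf.germ_eq x _ _ _ _ hg
    obtain ⟨W, hW, hxW, hle⟩ := exists_affine_le (S := X) hxW₀
    refine ⟨W, hle.trans (i₁.le.trans inf_le_left), mres F (hle.trans i₁.le) (mres F inf_le_right η), hW, hxW, ?_⟩
    have h3 := congrArg (mres F hle) he
    change mres F hle (mres F i₁.le _) = mres F hle (mres F i₂.le _) at h3
    simp only [mres_smul, mres_mres] at h3 ⊢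
    rw [ores_ores, ores_ores] at h3
    exact h3
  choose W hW η hWaff hxW heta using hloc
  obtain ⟨V, hV, hsV, hVU, hav⟩ := exists_nhd_avoid f hU hs (le_refl (f ⁻¹ᵁ U)) (f.isCompact_preimage hU.isCompact)
    (Z := ((⨆ x, W x : X.Opens) : Set X)ᶜ) (⨆ x, W x).2.isClosed_compl
    fun z hz hzc hzs => hzc (Opens.mem_iSup.2 ⟨(⟨z, hz, hzs⟩ : {x : X // x ∈ f ⁻¹ᵁ U ∧ f x ⤳ s}), hxW ⟨z, hz, hzs⟩⟩)
  obtain ⟨T, hT⟩ := (f.isCompact_preimage hV.isCompact).elim_finite_subcover (fun x => (W x : Set X)) (fun x => (W x).2)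
    fun z hz => by
      by_contra hzW
      exact hav z (f.preimage_mono hVU hz) (fun hzc => hzW (Set.mem_iUnion.2 (Opens.mem_iSup.1 hzc))) hz
  have hpair : ∀ p : T × T, ∃ Y : S.Opens, IsAffineOpen Y ∧ s ∈ Y ∧ Y ≤ U ∧
      mres F (inf_le_left : (W p.1.1 ⊓ W p.2.1) ⊓ f ⁻¹ᵁ Y ≤ W p.1.1 ⊓ W p.2.1)
        (mres F inf_le_left (η p.1.1) - mres F inf_le_right (η p.2.1)) = 0 := by
    rintro ⟨i, j⟩
    have hqs : IsQuasiSeparated ((f ⁻¹ᵁ U : X.Opens) : Set X) := f.isQuasiSeparated_preimage hU.isQuasiSeparated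
    refine exists_res_eq_zero f F hU hs (inf_le_left.trans (hW i.1))
      (hqs _ _ (hW i.1) (W i.1).2 (hWaff i.1).isCompact (hW j.1) (W j.1).2 (hWaff j.1).isCompact) _ fun x hx hxs => ?_
    have hr := h x (f.preimage_mono hUU (hW i.1 hx.1)) hxs
    rw [isWeaklyRegular_cons_iff] at hr
    refine hr.1.right_eq_zero_of_smul ?_
    have hi := congrArg (F.presheaf.germ (W i.1) x hx.1) (heta i.1)
    have hj := congrArg (F.presheaf.germ (W j.1) x hx.2) (heta j.1)
    rw [germ_smul, germ_mres, ores, TopCat.Presheaf.germ_res_apply] at hi hj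
    rw [map_sub, germ_mres, germ_mres, smul_sub, ← upGerm_ores f hUU a x (hW i.1 hx.1)]
    exact sub_eq_zero.2 (hi.trans hj.symm)
  choose Y hY hsY hYU hY0 using hpair
  have hopen : IsOpen ((V : Set S) ∩ ⋂ p, (Y p : Set S)) := V.2.inter (isOpen_iInter_of_finite fun p => (Y p).2)
  obtain ⟨U', hU', hs', hle⟩ := exists_affine_le (U := (⟨_, hopen⟩ : S.Opens)) ⟨hsV, Set.mem_iInter.2 hsY⟩
  have hU'V : U' ≤ V := fun z hz => (hle hz).1
  have hU'Y : ∀ p, U' ≤ Y p := fun p z hz => Set.mem_iInter.1 (hle hz).2 p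
  have hU'U : U' ≤ U := hU'V.trans hVU
  obtain ⟨e, he⟩ := exists_smul_eq_germ f F hU' hs' (ores (hU'U.trans hUU) a) (mres (P) hU'U σ₁)
    (fun i : T => W i.1 ⊓ f ⁻¹ᵁ U') (fun _ => inf_le_right) (fun x hx _ => by
      obtain ⟨i, hi, hxi⟩ := Set.mem_iUnion₂.1 (hT (f.preimage_mono hU'V hx))
      exact ⟨⟨i, hi⟩, hxi, hx⟩)
    (fun i => mres F inf_le_left (η i.1)) (fun i => by
      have h1 := congrArg (mres F (inf_le_left : W i.1 ⊓ f ⁻¹ᵁ U' ≤ W i.1)) (heta i.1)
      rw [mres_smul, ores_ores, mres_mres] at h1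
      refine Eq.trans ?_ (h1.trans (mres_mres F (f.preimage_mono hU'U) inf_le_right σ₁).symm)
      refine congrArg (· • mres F (inf_le_left : W i.1 ⊓ f ⁻¹ᵁ U' ≤ W i.1) (η i.1)) ?_
      have h4 := congr($(f.naturality (homOfLE hU'U).op) (ores hUU a))
      rw [show ores (hU'U.trans hUU) a = ores hU'U (ores hUU a) from (ores_ores hUU hU'U a).symm,
        show f.app U' (ores hU'U (ores hUU a)) = ores (f.preimage_mono hU'U) (f.app U (ores hUU a)) from h4, ores_ores])
    (fun i j => by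
      have h1 := hY0 (i, j)
      rw [map_sub, mres_mres, mres_mres, sub_eq_zero] at h1
      have h2 := congrArg (mres F (le_inf (le_inf (inf_le_left.trans inf_le_left) (inf_le_right.trans inf_le_left))
        ((inf_le_left.trans inf_le_right).trans (f.preimage_mono (hU'Y (i, j)))) :
        (W i.1 ⊓ f ⁻¹ᵁ U') ⊓ (W j.1 ⊓ f ⁻¹ᵁ U') ≤ (W i.1 ⊓ W j.1) ⊓ f ⁻¹ᵁ Y (i, j))) h1
      rw [mres_mres, mres_mres] at h2
      rw [mres_mres, mres_mres]
      exact h2)
  refine ⟨e, trivial, ?_⟩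
  rw [ores, TopCat.Presheaf.germ_res_apply] at he
  refine he.trans ?_
  rw [germ_mres, show (P).presheaf.germ U s _ σ₁ = (P).presheaf.germ D s hsD (σ true) from germ_mres (P) hUD' _ (σ true), hσ]
  rfl

/-- Direct images of flat modules have depth at least the minimum of two and the depth of the base. -/
theorem min_two_depth_le (hF : FlatMod.IsFlatOver f F) :
    min (2 : ℕ∞) (LocCoh.depth (S.presheaf.stalk s) (S.presheaf.stalk s)) ≤
      LocCoh.depth (S.presheaf.stalk s) ((P).presheaf.stalk s) := by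
  let A := S.presheaf.stalk s
  have hne : maximalIdeal A • (⊤ : Submodule A A) ≠ ⊤ := by
    rw [Ideal.smul_eq_mul, Ideal.mul_top]
    exact (maximalIdeal.isMaximal A).ne_top
  have germs : ∀ (n : ℕ), (n : ℕ∞) ≤ LocCoh.depth A A → ∃ (U : S.Opens) (hs : s ∈ U) (as : List Γ(S, U)),
      as.length = n ∧ (∀ a ∈ as, S.presheaf.germ U s hs a ∈ maximalIdeal A) ∧
        IsWeaklyRegular A (as.map fun a => S.presheaf.germ U s hs a) := fun n hn => by
    obtain ⟨rs, h1, h2, h3⟩ := DepthLib.exists_isWeaklyRegular_of_le_idealDepth hne hn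
    obtain ⟨U, -, hs, hr, -⟩ := exists_common_germs f F (s := s) (fun i : Fin rs.length => rs.get i) (fun e : Empty => e.elim)
    choose a ha using hr
    have hmap : (List.ofFn a).map (fun a => S.presheaf.germ U s hs a) = rs := by
      rw [List.map_ofFn]
      exact (congrArg List.ofFn (funext ha)).trans (List.ofFn_get rs)
    refine ⟨U, hs, List.ofFn a, by simpa using h3, fun x hx => h2 _ ?_, hmap.symm ▸ h1⟩
    rw [← hmap]
    exact List.mem_map_of_mem hx
  by_cases h2 : (2 : ℕ∞) ≤ LocCoh.depth A A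
  · refine (min_le_left _ _).trans ?_
    obtain ⟨U, hs, as, hl, hm, hreg⟩ := germs 2 h2
    obtain ⟨a, b, rfl⟩ := List.length_eq_two.1 hl
    have hr := isWeaklyRegular_stalk_of_flat f F hF hs [a, b] hreg
    have h1 := isSMulRegular_stalk_push f F hs a fun x hx hxs =>
      ((isWeaklyRegular_cons_iff _ _ _).1 (hr x hx hxs)).1
    exact_mod_cast DepthLib.length_le_idealDepth (rs := [S.presheaf.germ U s hs a, S.presheaf.germ U s hs b])
      ((isWeaklyRegular_cons_iff _ _ _).2 ⟨h1, (isWeaklyRegular_singleton_iff _ _).2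
        (isSMulRegular_quot_stalk_push f F hs a b hr)⟩)
      (by rintro r (_ | ⟨_, _ | ⟨_, ⟨⟩⟩⟩) <;> exact hm _ (by simp))
  · by_cases h1 : (1 : ℕ∞) ≤ LocCoh.depth A A
    · have hle : LocCoh.depth A A ≤ 1 := by
        have := not_le.1 h2
        exact Order.le_of_lt_succ (lt_of_lt_of_le this (le_of_eq rfl))
      obtain ⟨U, hs, as, hl, hm, hreg⟩ := germs 1 (by exact_mod_cast h1)
      obtain ⟨a, rfl⟩ := List.length_eq_one_iff.1 hl
      refine ((min_le_right _ _).trans hle).trans (DepthLib.one_le_idealDepth_of_regular (hm a (by simp))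
        (isSMulRegular_stalk_push f F hs a fun x hx hxs => (isWeaklyRegular_singleton_iff _ _).1
          (isWeaklyRegular_stalk_of_flat f F hF hs [a] hreg x hx hxs)))
    · exact (min_le_right _ _).trans ((le_of_eq (Order.lt_one_iff.1 (not_le.1 h1))).trans zero_le)

end Groth.Agent.PushDepth27
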